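import Groth.Agent.Agf.H593.UnipRad
import Groth.Agent.Sga3B.RG.SsExt885
import Groth.Agent.Agf.H623.SurjBorel

/-!
# Normal subgroups of reductive and semisimple groups (points form)

`K` algebraically closed, `A` a finitely generated commutative Hopf algebra over `K`.

* `isRedSub_of_normal`: a closed normal subgroup of a reductive group is reductive;
* `torus_eq_bot_of_normal`: a torus in a closed connected normal subgroup `N` of a semisimple group
  which is normalised by `N` is trivial.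
-/

set_option autoImplicit false

universe u

open Groth.Agent.Sga3B.RG Groth.Agent.Sga3B.Parab.BorelPts172

namespace K493.NormSub

open Groth.Agent.Agf.H593.UnipRad Groth.Agent.Agf.H623.SurjBorel

/-- To show that `N` normalises `H`. -/
lemma le_normalizer_of_conj {Γ : Type*} [Group Γ] {N H : Subgroup Γ}
    (h : ∀ g ∈ N, ∀ x ∈ H, g * x * g⁻¹ ∈ H) : N ≤ Subgroup.normalizer (H : Set Γ) := by
  intro g hg
  rw [Subgroup.mem_normalizer_iff]
  intro x
  refine ⟨h g hg x, fun hx => ?_⟩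
  have h1 := h g⁻¹ (inv_mem hg) _ hx
  simpa [mul_assoc] using h1

lemma conj_mem_of_le_normalizer {Γ : Type*} [Group Γ] {N H : Subgroup Γ}
    (h : N ≤ Subgroup.normalizer (H : Set Γ)) {g : Γ} (hg : g ∈ N) {x : Γ} (hx : x ∈ H) :
    g * x * g⁻¹ ∈ H :=
  (Subgroup.mem_normalizer_iff.1 (h hg) x).1 hx

/-- Conjugates of subgroups, elementwise. -/
lemma mem_map_conj {Γ : Type*} [Group Γ] {H : Subgroup Γ} {g x : Γ} :
    x ∈ H.map (MulAut.conj g).toMonoidHom ↔ g⁻¹ * x * g ∈ H := by
  constructor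
  · rintro ⟨y, hy, rfl⟩
    have : g⁻¹ * (MulAut.conj g).toMonoidHom y * g = y := by
      simp [mul_assoc]
    rw [this]
    exact hy
  · intro h
    exact ⟨_, h, by simp [mul_assoc]⟩

/-- If `N` is normal and normalises `H ≤ N`, it normalises the conjugates of `H`. -/
lemma conj_normalized {Γ : Type*} [Group Γ] {N H : Subgroup Γ} (hN : N.Normal)
    (h : N ≤ Subgroup.normalizer (H : Set Γ)) (g : Γ) :
    N ≤ Subgroup.normalizer ((H.map (MulAut.conj g).toMonoidHom : Subgroup Γ) : Set Γ) := by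
  refine le_normalizer_of_conj fun n hn x hx => ?_
  rw [mem_map_conj] at hx ⊢
  have h1 : g⁻¹ * n * g ∈ N := by
    have := hN.conj_mem n hn g⁻¹
    simpa using this
  have h2 := conj_mem_of_le_normalizer h h1 hx
  have h3 : g⁻¹ * n * g * (g⁻¹ * x * g) * (g⁻¹ * n * g)⁻¹ = g⁻¹ * (n * x * n⁻¹) * g := by
    group
  rw [h3] at h2
  exact h2

lemma conj_le {Γ : Type*} [Group Γ] {N H : Subgroup Γ} (hN : N.Normal) (h : H ≤ N) (g : Γ) :
    H.map (MulAut.conj g).toMonoidHom ≤ N := by
  intro x hx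
  rw [mem_map_conj] at hx
  have := hN.conj_mem _ (h hx) g
  simpa [mul_assoc] using this

variable {K : Type u} [Field K] [IsAlgClosed K] {A : Type u} [CommRing A] [HopfAlgebra K A]
  [Algebra.FiniteType K A]

omit [IsAlgClosed K] [Algebra.FiniteType K A] in
lemma map_conj_coe (H : Subgroup (Pt K A)) (g : Pt K A) :
    ((H.map (MulAut.conj g).toMonoidHom : Subgroup (Pt K A)) : Set (Pt K A)) =
      (fun x => g * x * g⁻¹) '' (H : Set (Pt K A)) := rfl

/-- **Closed normal subgroups of reductive groups are reductive.** -/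
theorem isRedSub_of_normal [IsReduced A] (h : IsRedPt K A) {N : Subgroup (Pt K A)} (hN : N.Normal)
    (hNcl : IsCl (N : Set (Pt K A))) : IsRedSub N := by
  intro M hMN hNM hcl hconn hu
  let Q : Subgroup (Pt K A) → Prop := fun M => M ≤ N ∧ N ≤ Subgroup.normalizer (M : Set (Pt K A)) ∧
    IsCl (M : Set (Pt K A)) ∧ IsConn (M : Set (Pt K A)) ∧ ∀ g ∈ M, IsUnip g
  obtain ⟨R, hR, hmax⟩ := exists_maximal_isConn Q ⟨M, hMN, hNM, hcl, hconn, hu⟩
    (fun N hN => ⟨hN.2.2.1, hN.2.2.2.1⟩)
  have hle : ∀ M, Q M → M ≤ R := by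
    intro M hM
    have hRM : N ≤ Subgroup.normalizer ((R ⊔ M : Subgroup (Pt K A)) : Set (Pt K A)) := by
      refine le_normalizer_of_conj fun g hg x hx => ?_
      have h1 : (R ⊔ M).map (MulAut.conj g).toMonoidHom ≤ R ⊔ M := by
        rw [Subgroup.map_sup]
        refine sup_le_sup ?_ ?_
        · rintro _ ⟨y, hy, rfl⟩
          exact conj_mem_of_le_normalizer hR.2.1 hg hy
        · rintro _ ⟨y, hy, rfl⟩
          exact conj_mem_of_le_normalizer hM.2.1 hg hy
      exact h1 ⟨x, hx, rfl⟩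
    have hQ : Q (clSub (R ⊔ M)) := by
      refine ⟨clSub_le (sup_le hR.1 hM.1) hNcl, ?_, isCl_clSub _,
        isConn_clSub (hR.2.2.2.1.sup hM.2.2.2.1), ?_⟩
      · exact le_normalizer_of_conj fun g hg x hx =>
          conj_mem_clSub (fun y hy => conj_mem_of_le_normalizer hRM hg hy) hx
      · exact isUnip_clSub (isUnip_sup (hM.1.trans hR.2.1) hR.2.2.2.2 hM.2.2.2.2)
    have h2 := hmax _ hQ (le_sup_left.trans (le_clSub _))
    rw [← h2]
    exact le_sup_right.trans (le_clSub _)
  have hRn : R.Normal := by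
    refine ⟨fun x hx g => ?_⟩
    refine hle (R.map (MulAut.conj g).toMonoidHom) ⟨conj_le hN hR.1 g, conj_normalized hN hR.2.1 g,
      ?_, ?_, ?_⟩ ⟨x, hx, rfl⟩
    · rw [map_conj_coe]
      exact hR.2.2.1.conj g
    · rw [map_conj_coe]
      exact hR.2.2.2.1.conj g
    · rintro _ ⟨y, hy, rfl⟩
      exact (hR.2.2.2.2 y hy).conj g
  have h3 := h R hRn hR.2.2.1 hR.2.2.2.1 hR.2.2.2.2
  rw [eq_bot_iff, ← h3]
  exact hle M ⟨hMN, hNM, hcl, hconn, hu⟩

/-- **Tori in normal subgroups of semisimple groups.**  If the group has no nontrivial normal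
torus then a closed connected normal subgroup `N` has no nontrivial torus normalised by `N`. -/
theorem torus_eq_bot_of_normal [IsReduced A] (h : ∀ T : Subgroup (Pt K A), T.Normal → IsTorusSub T → T = ⊥)
    {N : Subgroup (Pt K A)} (hN : N.Normal) (hNconn : IsConn (N : Set (Pt K A)))
    {T : Subgroup (Pt K A)} (hT : IsTorusSub T) (hTN : T ≤ N)
    (hn : N ≤ Subgroup.normalizer (T : Set (Pt K A))) : T = ⊥ := by
  obtain ⟨R, hR, ⟨hRN, hnR⟩, hTR, hmax⟩ := hT.exists_maximal
    (fun T => T ≤ N ∧ N ≤ Subgroup.normalizer (T : Set (Pt K A))) ⟨hTN, hn⟩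
  have hRn : R.Normal := by
    refine ⟨fun x hx g => ?_⟩
    have hR' : IsTorusSub (R.map (MulAut.conj g).toMonoidHom) := hR.conj g
    have hRN' : R.map (MulAut.conj g).toMonoidHom ≤ N := conj_le hN hRN g
    have hnR' := conj_normalized hN hnR g
    have hc : ∀ x ∈ R, ∀ y ∈ R.map (MulAut.conj g).toMonoidHom, x * y = y * x := by
      intro x hx y hy
      exact (Subgroup.mem_centralizer_iff.1 (Rigid.le_centralizer hR hNconn hnR (hRN' hy)) x hx)
    have hsup := TorusGen.isTorusSub_sup hR hR' hc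
    have h1 : N ≤ Subgroup.normalizer
        ((R ⊔ R.map (MulAut.conj g).toMonoidHom : Subgroup (Pt K A)) : Set (Pt K A)) := by
      refine le_normalizer_of_conj fun n hn z hz => ?_
      have h2 : (R ⊔ R.map (MulAut.conj g).toMonoidHom).map (MulAut.conj n).toMonoidHom ≤
          R ⊔ R.map (MulAut.conj g).toMonoidHom := by
        rw [Subgroup.map_sup]
        refine sup_le_sup ?_ ?_
        · rintro _ ⟨y, hy, rfl⟩
          exact conj_mem_of_le_normalizer hnR hn hy
        · rintro _ ⟨y, hy, rfl⟩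
          exact conj_mem_of_le_normalizer hnR' hn hy
      exact h2 ⟨z, hz, rfl⟩
    have h3 := hmax _ hsup ⟨sup_le hRN hRN', h1⟩ le_sup_left
    rw [← h3]
    exact Subgroup.mem_sup_right ⟨x, hx, rfl⟩
  rw [eq_bot_iff, ← h R hRn hR]
  exact hTR

/-- **Closed connected normal subgroups of semisimple groups are semisimple.** -/
theorem isSsPt_quot_of_normal [IsReduced A] (h : BcPt.IsSsPt K A) {N : Subgroup (Pt K A)}
    (hN : N.Normal) (hNcl : IsCl (N : Set (Pt K A))) (hNconn : IsConn (N : Set (Pt K A))) :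
    BcPt.IsSsPt K (A ⧸ vanIdeal (N : Set (Pt K A))) := by
  refine ⟨(isRedSub_iff hNcl).1 (isRedSub_of_normal h.1 hN hNcl), fun T hT hT' => ?_⟩
  have hs : Function.Surjective (Bialgebra.Quotient.mkBialgHom (R := K)
    (vanIdeal (N : Set (Pt K A)))) := Ideal.Quotient.mk_surjective
  have hr := range_quotMap_vanIdeal N hNcl
  have h1 : T.map (quotMap (vanIdeal (N : Set (Pt K A)))) ≤ N :=
    (Subgroup.map_le_range _ _).trans hr.le
  have h2 : T.map (quotMap (vanIdeal (N : Set (Pt K A)))) = ⊥ := by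
    refine torus_eq_bot_of_normal h.2 hN hNconn ((isTorusSub_map_iff hs).2 hT') h1 ?_
    refine le_normalizer_of_conj fun n hn x hx => ?_
    rw [← hr] at hn
    obtain ⟨n', rfl⟩ := hn
    obtain ⟨x', hx', rfl⟩ := hx
    refine ⟨n' * x' * n'⁻¹, hT.conj_mem x' hx' n', ?_⟩
    rw [map_mul, map_mul, map_inv]
  rw [Subgroup.map_eq_bot_iff_of_injective] at h2
  · exact h2
  · exact quotMap_injective (K := K) _

end K493.NormSub
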