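import Groth.Agent.AGF.K493.Glue
import Groth.Agent.AGF.K493.NormSub
import Groth.Agent.Sga3B.RedIso
import Groth.Agent.Sga3B.RadOpen.PtTorus
import Groth.Prelude.Def_Par

/-!
# Unipotent radicals in terms of points

`K` algebraically closed, `e : G ≅ SpecOver K A`, `iP : P ⟶ G` a smooth closed subgroup scheme.

* `IsURadIn B N`: `N` is the largest closed connected subgroup of `B` which consists of unipotent
  points and is normalised by `B`;
* `isUnipotentRadical_iff`: `Par.IsUnipotentRadical u ↔ IsURadIn (points of P) (points of U)`;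
* `hasNoSubtorus_geomFibre_iff`, `connectedSpace_geomFibre_iff`.
-/

set_option autoImplicit false

universe u

open CategoryTheory MonoidalCategory CartesianMonoidalCategory MonObj GrpObj AlgebraicGeometry Limits
open Groth.Agent.Books.AffBridge Groth.Agent.Books.AffBridge2

namespace K493.URad

open Groth.Agent.Sga3B Groth.Agent.Sga3B.RG Groth.Agent.Sga3B.RG.BrPts Groth.Agent.Sga3B.RG.BrMax
open Groth.Agent.Agf.H614.AlgDict Groth.Agent.Sga3B.Parab.BorelPts172
open Groth.Agent.Books.AlgPtsGrp Groth.Agent.Books.AlgPtsIrred Groth.Agent.Books.AlgPtsSmooth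
open K493.NormSub

variable {K : Type u} [Field K]

section pts

variable {A : Type u} [CommRing A] [HopfAlgebra K A]

/-- `N` is the unipotent radical of the subgroup `B` of points. -/
structure IsURadIn (B N : Subgroup (Pt K A)) : Prop where
  le : N ≤ B
  norm : B ≤ Subgroup.normalizer (N : Set (Pt K A))
  isCl : IsCl (N : Set (Pt K A))
  isConn : IsConn (N : Set (Pt K A))
  isUnip : ∀ g ∈ N, IsUnip g
  max : ∀ M : Subgroup (Pt K A), M ≤ B → B ≤ Subgroup.normalizer (M : Set (Pt K A)) →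
    IsCl (M : Set (Pt K A)) → IsConn (M : Set (Pt K A)) → (∀ g ∈ M, IsUnip g) → M ≤ N

end pts

variable [IsAlgClosed K]

/-- No subtori: absolute form. -/
lemma hasNoSubtorus_geomFibre_iff (s : Spec (CommRingCat.of K))
    {U : Over (Spec (CommRingCat.of K))} [GrpObj U] :
    Red.HasNoSubtorus _ (Red.geomFibre s U) ↔ Red.HasNoSubtorus K U :=
  ⟨fun h => RedIso.hasNoSubtorus_of_iso (RedIso.unbcIso' (Red.geomPt s) U)
    (RedIso.hasNoSubtorus_bc (CategoryTheory.inv (Red.geomPt s)) h),
    fun h => RedIso.hasNoSubtorus_bc (Red.geomPt s) h⟩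

lemma connectedSpace_geomFibre_iff (s : Spec (CommRingCat.of K))
    {U : Over (Spec (CommRingCat.of K))} :
    ConnectedSpace (Red.geomFibre s U).left ↔ ConnectedSpace U.left := by
  have h1 : IsIso (Limits.pullback.fst U.hom (Red.geomPt s)) := inferInstance
  constructor
  · exact RedIso.connectedSpace_of_iso (Limits.pullback.fst U.hom (Red.geomPt s))
  · exact RedIso.connectedSpace_of_iso
      (CategoryTheory.inv (Limits.pullback.fst U.hom (Red.geomPt s)))

variable {A : Type u} [CommRing A] [HopfAlgebra K A] [Algebra.FiniteType K A]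
variable {G : Over (Spec (CommRingCat.of K))} [GrpObj G] (e : G ≅ SpecOver K A) [IsMonHom e.hom]
variable {P : Over (Spec (CommRingCat.of K))} [GrpObj P] (iP : P ⟶ G) [IsMonHom iP]
  [IsClosedImmersion iP.left] [Smooth P.hom]

omit [IsAlgClosed K] [Algebra.FiniteType K A] [IsMonHom e.hom] [GrpObj G] [GrpObj P]
  [IsMonHom iP] [IsClosedImmersion iP.left] [Smooth P.hom] in
lemma isMonHom_of_comp {V P Q : Over (Spec (CommRingCat.of K))} [GrpObj V] [GrpObj P] [GrpObj Q]
    (f : V ⟶ P) (i : P ⟶ Q) [IsMonHom i] [Mono i] (h : IsMonHom (f ≫ i)) : IsMonHom f where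
  one_hom := by
    rw [← cancel_mono i, Category.assoc, IsMonHom.one_hom (f := i)]
    exact h.one_hom
  mul_hom := by
    rw [← cancel_mono i, Category.assoc, Category.assoc, IsMonHom.mul_hom (f := i), h.mul_hom]
    simp [MonoidalCategory.tensorHom_comp_tensorHom_assoc]

omit [Smooth P.hom] in
/-- A closed subgroup of the group of points inside the points of `P` is the group of points of a
smooth closed subgroup scheme of `P`. -/
theorem exists_scheme_le {M : Subgroup (Pt K A)} (hcl : IsCl (M : Set (Pt K A)))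
    (hle : M ≤ ptsSub (iP ≫ e.hom)) :
    ∃ (V : Over (Spec (CommRingCat.of K))) (_ : GrpObj V) (v : V ⟶ P) (_ : IsMonHom v),
      IsClosedImmersion v.left ∧ Smooth V.hom ∧ ptsSub ((v ≫ iP) ≫ e.hom) = M := by
  have h1 : _root_.IsReduced (A ⧸ vanIdeal (M : Set (Pt K A))) := inferInstance
  have h2 : Smooth (SpecOver K (A ⧸ vanIdeal (M : Set (Pt K A)))).hom :=
    (BrPts.smooth_iff (K := K) (A ⧸ vanIdeal (M : Set (Pt K A)))).2 h1
  have h3 : ptsSub (incl K (vanIdeal (M : Set (Pt K A)))) = M := by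
    apply SetLike.coe_injective
    rw [ptsSub_incl, hcl.eq]
  have hm : Mono (iP ≫ e.hom) := mono_of_isClosedImmersion _
  obtain ⟨f, hf⟩ := exists_factor_of_le (incl K (vanIdeal (M : Set (Pt K A)))) (iP ≫ e.hom)
    (by rw [h3]; exact hle)
  have hfm : IsMonHom f := isMonHom_of_comp f (iP ≫ e.hom) (by rw [hf]; infer_instance)
  have hcl' : IsClosedImmersion f.left := by
    have h4 : IsClosedImmersion (f.left ≫ (iP ≫ e.hom).left) := by
      rw [← Over.comp_left, hf]
      infer_instance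
    exact IsClosedImmersion.of_comp f.left (iP ≫ e.hom).left
  refine ⟨_, inferInstance, f, hfm, hcl', h2, ?_⟩
  have h5 : (f ≫ iP) ≫ e.hom = incl K (vanIdeal (M : Set (Pt K A))) := by
    rw [Category.assoc, hf]
  have h6 : ∀ (j : SpecOver K (A ⧸ vanIdeal (M : Set (Pt K A))) ⟶ SpecOver K A) (_ : IsMonHom j),
      j = incl K (vanIdeal (M : Set (Pt K A))) → ptsSub j = M := by
    rintro j _ rfl
    exact h3
  exact h6 _ _ h5

omit [Algebra.FiniteType K A] in
/-- Normality of a smooth closed subgroup of `P` in terms of points. -/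
theorem isNormalHom_iff {U : Over (Spec (CommRingCat.of K))} [GrpObj U] (u : U ⟶ P) [IsMonHom u]
    [IsClosedImmersion u.left] [Smooth U.hom] :
    AlgGrp.IsNormalHom u ↔ ptsSub (iP ≫ e.hom) ≤
      Subgroup.normalizer (ptsSub ((u ≫ iP) ≫ e.hom) : Set (Pt K A)) := by
  have hm : Mono iP := mono_of_isClosedImmersion _
  constructor
  · intro h
    refine le_normalizer_of_conj fun g hg x hx => ?_
    obtain ⟨p, hp⟩ := (mem_ptsSub_comp_iff e iP g).1 hg
    obtain ⟨n, hn⟩ := (mem_ptsSub_comp_iff e (u ≫ iP) x).1 hx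
    obtain ⟨n', hn'⟩ := h _ p n
    refine (mem_ptsSub_comp_iff e (u ≫ iP) _).2 ⟨n', ?_⟩
    rw [← Category.assoc, ← hn', MonObj.mul_comp, MonObj.mul_comp, Category.assoc, hn, hp,
      GrpObj.inv_comp, hp, map_mul, map_mul, map_inv]
  · intro h
    refine isNormalHom_of_points u fun p n => ?_
    have h1 : pt e (p ≫ iP) ∈ ptsSub (iP ≫ e.hom) := pt_comp_mem e iP p
    have h2 : pt e (n ≫ u ≫ iP) ∈ ptsSub ((u ≫ iP) ≫ e.hom) := pt_comp_mem e (u ≫ iP) n
    have h3 := conj_mem_of_le_normalizer h h1 h2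
    rw [← map_mul, ← map_inv, ← map_mul, pt_mem_ptsSub_iff] at h3
    obtain ⟨n', hn'⟩ := h3
    refine ⟨n', ?_⟩
    rw [← cancel_mono iP, MonObj.mul_comp, MonObj.mul_comp, GrpObj.inv_comp, Category.assoc,
      Category.assoc, ← hn']

/-- **Unipotent radicals in terms of points.** -/
theorem isUnipotentRadical_iff {U : Over (Spec (CommRingCat.of K))} [GrpObj U] (u : U ⟶ P)
    [IsMonHom u] [IsClosedImmersion u.left] [Smooth U.hom] :
    Par.IsUnipotentRadical u ↔
      IsURadIn (ptsSub (iP ≫ e.hom)) (ptsSub ((u ≫ iP) ≫ e.hom)) := by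
  have hm : Mono iP := mono_of_isClosedImmersion _
  have hmu : Mono u := mono_of_isClosedImmersion _
  have hcu : IsClosedImmersion (u ≫ iP).left := by rw [Over.comp_left]; infer_instance
  let s₀ : Spec (CommRingCat.of K) := IsLocalRing.closedPoint K
  constructor
  · rintro ⟨-, -, h3, -, -, h6, h7⟩
    have hconn : ConnectedSpace U.left := (connectedSpace_geomFibre_iff s₀).1 (h6 s₀).1
    have hnt : Red.HasNoSubtorus K U := (hasNoSubtorus_geomFibre_iff s₀).1 (h6 s₀).2
    refine ⟨ptsSub_le_of_factor e (u ≫ iP) iP u rfl, (isNormalHom_iff e iP u).1 h3,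
      (exists_iso_vanIdeal _).1, isConn_ptsSub _,
      RadOpen.isUnip_of_hasNoSubtorus ((u ≫ iP) ≫ e.hom) hnt, ?_⟩
    intro M hMB hBM hcl hc hu
    obtain ⟨V, _, v, _, hv, hVs, hVM⟩ := exists_scheme_le e iP hcl hMB
    have hcv : IsClosedImmersion (v ≫ iP).left := by rw [Over.comp_left]; infer_instance
    have hVc : ConnectedSpace V.left :=
      connectedSpace_of_isConn ((v ≫ iP) ≫ e.hom) (by rw [hVM]; exact hc)
    have hvn : AlgGrp.IsNormalHom v := (isNormalHom_iff e iP v).2 (by rw [hVM]; exact hBM)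
    have hmv : Mono ((v ≫ iP) ≫ e.hom) := mono_of_isClosedImmersion _
    have hVt : Red.HasNoSubtorus K V :=
      BrRed.hasNoSubtorus_of_unip ((v ≫ iP) ≫ e.hom) (by rw [hVM]; exact hu)
    have hqc : QuasiCompact V.hom := by
      have h8 : V.hom = ((v ≫ iP) ≫ e.hom).left ≫ (SpecOver K A).hom := (Over.w _).symm
      rw [h8]
      infer_instance
    obtain ⟨f, hf⟩ := h7 V v hv hvn hVs hqc
      (fun s => ⟨(connectedSpace_geomFibre_iff s).2 hVc, (hasNoSubtorus_geomFibre_iff s).2 hVt⟩)
    rw [← hVM]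
    exact ptsSub_le_of_factor e (v ≫ iP) (u ≫ iP) f (by rw [← Category.assoc, hf])
  · intro h
    have hconn : ConnectedSpace U.left :=
      connectedSpace_of_isConn ((u ≫ iP) ≫ e.hom) h.isConn
    have hm' : Mono ((u ≫ iP) ≫ e.hom) := mono_of_isClosedImmersion _
    have hnt : Red.HasNoSubtorus K U := BrRed.hasNoSubtorus_of_unip ((u ≫ iP) ≫ e.hom) h.isUnip
    have hqc : QuasiCompact U.hom := by
      have h8 : U.hom = ((u ≫ iP) ≫ e.hom).left ≫ (SpecOver K A).hom := (Over.w _).symm
      rw [h8]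
      infer_instance
    refine ⟨inferInstance, inferInstance, (isNormalHom_iff e iP u).2 h.norm, inferInstance, hqc,
      fun s => ⟨(connectedSpace_geomFibre_iff s).2 hconn, (hasNoSubtorus_geomFibre_iff s).2 hnt⟩, ?_⟩
    intro V _ v _ hv hvn hVs hVq hVf
    have hVc : ConnectedSpace V.left := (connectedSpace_geomFibre_iff s₀).1 (hVf s₀).1
    have hVt : Red.HasNoSubtorus K V := (hasNoSubtorus_geomFibre_iff s₀).1 (hVf s₀).2
    have hcv : IsClosedImmersion (v ≫ iP).left := by rw [Over.comp_left]; infer_instance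
    have h1 : ptsSub ((v ≫ iP) ≫ e.hom) ≤ ptsSub ((u ≫ iP) ≫ e.hom) :=
      h.max _ (ptsSub_le_of_factor e (v ≫ iP) iP v rfl) ((isNormalHom_iff e iP v).1 hvn)
        (exists_iso_vanIdeal _).1 (isConn_ptsSub _)
        (RadOpen.isUnip_of_hasNoSubtorus ((v ≫ iP) ≫ e.hom) hVt)
    obtain ⟨f, hf⟩ := exists_factor_of_ptsSub_le e (v ≫ iP) (u ≫ iP) h1
    refine ⟨f, ?_⟩
    rw [← cancel_mono iP, Category.assoc, hf]

end K493.URad
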