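import Groth.Agent.Agf.H614.AlgDict
import Groth.Agent.Agf.H614.FieldGlue
import Groth.Agent.Agf.H623.BorelSch

/-!
# Glue between homomorphisms of affine groups over an algebraically closed field and points

`K` algebraically closed, `e : G ≅ SpecOver K A`, `e' : G' ≅ SpecOver K C`, `φ : G ⟶ G'` a
homomorphism presented by `ψ : C →ₐc[K] A`.

* `pt_comp`: `pt e' (g ≫ φ) = Pt.map ψ (pt e g)`;
* `map_ptsSub_le`: images of subgroups;
* `surjective_map`: surjectivity on points;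
* `exists_iso_of_le_le`, `isTrivial`...
-/

set_option autoImplicit false

universe u

open CategoryTheory MonoidalCategory CartesianMonoidalCategory MonObj GrpObj AlgebraicGeometry Limits
open Groth.Agent.Books.AffBridge Groth.Agent.Books.AffBridge2

namespace K493.Glue

open Groth.Agent.Sga3B Groth.Agent.Sga3B.RG Groth.Agent.Sga3B.RG.BrPts
open Groth.Agent.Agf.H614.AlgDict Groth.Agent.Sga3B.Parab.BorelPts172

variable {K : Type u} [Field K]
variable {A C : Type u} [CommRing A] [HopfAlgebra K A] [CommRing C] [HopfAlgebra K C]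
variable {G G' : Over (Spec (CommRingCat.of K))} [GrpObj G] [GrpObj G']
  (e : G ≅ SpecOver K A) [IsMonHom e.hom] (e' : G' ≅ SpecOver K C) [IsMonHom e'.hom]

/-- Points and homomorphisms. -/
lemma pt_comp (φ : G ⟶ G') (ψ : C →ₐc[K] A)
    (h : e.inv ≫ φ ≫ e'.hom = specMap K (ψ : C →ₐ[K] A))
    (g : 𝟙_ (Over (Spec (CommRingCat.of K))) ⟶ G) :
    pt e' (g ≫ φ) = Pt.map ψ (pt e g) := by
  apply (ptEquiv K C).injective
  rw [ptEquiv_pt, ptEquiv_map, ptEquiv_pt, ← h]
  simp

lemma symm_comp (φ : G ⟶ G') (ψ : C →ₐc[K] A)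
    (h : e.inv ≫ φ ≫ e'.hom = specMap K (ψ : C →ₐ[K] A)) (x : Pt K A) :
    (pt e).symm x ≫ φ = (pt e').symm (Pt.map ψ x) := by
  apply (pt e').injective
  rw [pt_comp e e' φ ψ h, MulEquiv.apply_symm_apply, MulEquiv.apply_symm_apply]

/-- A commutative square gives an inclusion of points. -/
lemma map_ptsSub_le (φ : G ⟶ G') (ψ : C →ₐc[K] A)
    (h : e.inv ≫ φ ≫ e'.hom = specMap K (ψ : C →ₐ[K] A))
    {B B' : Over (Spec (CommRingCat.of K))} [GrpObj B] [GrpObj B'] (i : B ⟶ G) [IsMonHom i]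
    (i' : B' ⟶ G') [IsMonHom i'] (f : B ⟶ B') (hf : f ≫ i' = i ≫ φ) :
    (ptsSub (i ≫ e.hom)).map (Pt.map ψ) ≤ ptsSub (i' ≫ e'.hom) := by
  rintro _ ⟨x, hx, rfl⟩
  obtain ⟨b, hb⟩ := (mem_ptsSub_comp_iff e i x).1 hx
  refine (mem_ptsSub_comp_iff e' i' _).2 ⟨b ≫ f, ?_⟩
  rw [Category.assoc, hf, ← Category.assoc, hb, symm_comp e e' φ ψ h]

variable [IsAlgClosed K]

/-- Surjective homomorphisms are surjective on points. -/
lemma surjective_map [Algebra.FiniteType K A] [Algebra.FiniteType K C] (φ : G ⟶ G')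
    [hφ : Surjective φ.left] (ψ : C →ₐc[K] A)
    (h : e.inv ≫ φ ≫ e'.hom = specMap K (ψ : C →ₐ[K] A)) :
    Function.Surjective (Pt.map ψ) := by
  refine Groth.Agent.Agf.H623.BorelSch.ptMap_surjective ψ ?_
  rw [← h, Over.comp_left, Over.comp_left]
  have h1 : IsIso e.inv.left := inferInstanceAs (IsIso ((Over.forget _).map e.inv))
  have h2 : IsIso e'.hom.left := inferInstanceAs (IsIso ((Over.forget _).map e'.hom))
  infer_instance

end K493.Glue
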