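import Groth.Agent.AGF.K493.NormSub
import Groth.Agent.Sga3B.RedIso
import Groth.Agent.Agf.H614.FieldGlue

import Groth.Agent.Sga3B.RG.BrRed2
import Groth.Agent.Sga3B.RG.BrHc

/-!
# Normal subgroups of reductive and semisimple groups (scheme form)

* `isReductiveOver_of_normal`, `isSemisimpleOver_of_normal`: over an algebraically closed field;
* `isReductive_of_normal`, `isSemisimple_of_normal`: over any field.
-/

set_option autoImplicit false

universe u

open CategoryTheory MonoidalCategory CartesianMonoidalCategory MonObj GrpObj AlgebraicGeometry Limits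
open Groth.Agent.Books.AffBridge Groth.Agent.Books.AffBridge2

namespace K493.NormRed

open Groth.Agent.Sga3B Groth.Agent.Sga3B.RG Groth.Agent.Sga3B.RG.BrPts
open K493.NormSub

section alg

variable {K : Type u} [Field K] [IsAlgClosed K]

/-- A smooth closed normal subgroup of a reductive group is (if connected) reductive. -/
theorem isReductiveOver_of_normal {N G : Over (Spec (CommRingCat.of K))} [GrpObj N] [GrpObj G]
    (hG : Red.IsReductiveOver K G) (i : N ⟶ G) [IsMonHom i] [IsClosedImmersion i.left]
    [Smooth N.hom] [ConnectedSpace N.left] (hN : AlgGrp.IsNormalHom i) :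
    Red.IsReductiveOver K N := by
  obtain ⟨A, _, _, e, he, hft, hdom, hred⟩ := BrHc.exists_hopf_of_isReductiveOver G hG
  have hiso : IsIso e.hom.left := inferInstanceAs (IsIso ((Over.forget _).map e.hom))
  have hcl : IsClosedImmersion (i ≫ e.hom).left := by rw [Over.comp_left]; infer_instance
  obtain ⟨h1, hI, f, hf, -⟩ := exists_iso_vanIdeal (i ≫ e.hom)
  have hn : (ptsSub (i ≫ e.hom)).Normal :=
    normal_ptsSub (i ≫ e.hom) (BrRed2.isNormalHom_comp_iso i e hN)
  have hconn := isConn_ptsSub (i ≫ e.hom)
  have hd : IsDomain (A ⧸ vanIdeal (ptsSub (i ≫ e.hom) : Set (Pt K A))) :=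
    (Ideal.Quotient.isDomain_iff_prime _).2 hconn
  have hfs : IsMonHom f.symm.hom := inferInstanceAs (IsMonHom f.inv)
  refine BrRed2.isReductiveOver_of_iso f.symm (BrRed2.isReductiveOver_iff.2 ⟨hd, ?_⟩)
  exact (isRedSub_iff h1).1 (isRedSub_of_normal hred hn h1)

/-- A smooth connected closed normal subgroup of a semisimple group is semisimple. -/
theorem isSemisimpleOver_of_normal {N G : Over (Spec (CommRingCat.of K))} [GrpObj N] [GrpObj G]
    (hG : Red.IsSemisimpleOver K G) (i : N ⟶ G) [IsMonHom i] [IsClosedImmersion i.left]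
    [Smooth N.hom] [ConnectedSpace N.left] (hN : AlgGrp.IsNormalHom i) :
    Red.IsSemisimpleOver K N := by
  obtain ⟨A, _, _, e, he, hft, hdom, hred⟩ := BrHc.exists_hopf_of_isReductiveOver G hG.1
  have hss := (BrRed2.isSemisimpleOver_iff.1 (BrRed2.isSemisimpleOver_of_iso e hG)).2
  have hiso : IsIso e.hom.left := inferInstanceAs (IsIso ((Over.forget _).map e.hom))
  have hcl : IsClosedImmersion (i ≫ e.hom).left := by rw [Over.comp_left]; infer_instance
  obtain ⟨h1, hI, f, hf, -⟩ := exists_iso_vanIdeal (i ≫ e.hom)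
  have hn : (ptsSub (i ≫ e.hom)).Normal :=
    normal_ptsSub (i ≫ e.hom) (BrRed2.isNormalHom_comp_iso i e hN)
  have hconn := isConn_ptsSub (i ≫ e.hom)
  have hd : IsDomain (A ⧸ vanIdeal (ptsSub (i ≫ e.hom) : Set (Pt K A))) :=
    (Ideal.Quotient.isDomain_iff_prime _).2 hconn
  have hfs : IsMonHom f.symm.hom := inferInstanceAs (IsMonHom f.inv)
  refine BrRed2.isSemisimpleOver_of_iso f.symm (BrRed2.isSemisimpleOver_iff.2 ⟨hd, ?_⟩)
  exact isSsPt_quot_of_normal hss hn h1 hconn

end alg

section field

variable {k : Type u} [Field k]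

/-- **Normal subgroups of reductive groups are reductive.** -/
theorem isReductive_of_normal {N G : Over (Spec (CommRingCat.of k))} [GrpObj N] [GrpObj G]
    (hG : Red.IsReductive G) (i : N ⟶ G) [IsMonHom i] [hi : IsClosedImmersion i.left]
    [Smooth N.hom] [ConnectedSpace N.left] (hN : AlgGrp.IsNormalHom i) :
    Red.IsReductive N := by
  refine ⟨?_, inferInstance, fun s => ?_⟩
  · have h1 : IsAffineHom G.hom := hG.1
    rw [← Over.w i]
    infer_instance
  · have h2 : IsClosedImmersion ((Over.pullback (Red.geomPt s)).map i).left :=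
      MorphismProperty.overPullbackMap (P := @IsClosedImmersion) _ i hi
    have h3 : ConnectedSpace (Red.geomFibre s N).left :=
      Groth.Agent.Agf.H614.FieldGlue.connectedSpace_bc N (Red.geomPt s)
    have h4 : Smooth (Red.geomFibre s N).hom :=
      Groth.Agent.Agf.H614.FieldGlue.smooth_bc (Red.geomPt s) N
    exact isReductiveOver_of_normal (hG.2.2 s) ((Over.pullback (Red.geomPt s)).map i)
      (NormBc.isNormalHom_bc _ i hN)

/-- **Normal subgroups of semisimple groups are semisimple.** -/
theorem isSemisimple_of_normal {N G : Over (Spec (CommRingCat.of k))} [GrpObj N] [GrpObj G]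
    (hG : Red.IsSemisimple G) (i : N ⟶ G) [IsMonHom i] [hi : IsClosedImmersion i.left]
    [Smooth N.hom] [ConnectedSpace N.left] (hN : AlgGrp.IsNormalHom i) :
    Red.IsSemisimple N := by
  refine ⟨?_, inferInstance, fun s => ?_⟩
  · have h1 : IsAffineHom G.hom := hG.1
    rw [← Over.w i]
    infer_instance
  · have h2 : IsClosedImmersion ((Over.pullback (Red.geomPt s)).map i).left :=
      MorphismProperty.overPullbackMap (P := @IsClosedImmersion) _ i hi
    have h3 : ConnectedSpace (Red.geomFibre s N).left :=
      Groth.Agent.Agf.H614.FieldGlue.connectedSpace_bc N (Red.geomPt s)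
    have h4 : Smooth (Red.geomFibre s N).hom :=
      Groth.Agent.Agf.H614.FieldGlue.smooth_bc (Red.geomPt s) N
    exact isSemisimpleOver_of_normal (hG.2.2 s) ((Over.pullback (Red.geomPt s)).map i)
      (NormBc.isNormalHom_bc _ i hN)

end field

end K493.NormRed
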