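import Groth.Agent.S3972
import Groth.Agent.Sga3B.AlgBc2
import Groth.Agent.Agf.H593.QuotPt
import Groth.Agent.Sga3B.RG.SsExt885
import Groth.Agent.Sga3B.RG.BrRed2
import Groth.Agent.Flat2B.SmoothGeom
import Groth.Agent.Agf.H614.AlgDict

/-!
# Semisimple groups are perfect

* `eq_one_of_isSemisimple`: homomorphisms from a semisimple group scheme to a commutative group
  scheme are trivial;
* `mul_comm_of_points`: commutativity can be checked on points;
* `eq_top_of_isSsPt`: a closed normal subgroup of a semisimple group of points with commutative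
  quotient is everything.
-/

set_option autoImplicit false

universe u

open CategoryTheory MonoidalCategory CartesianMonoidalCategory MonObj GrpObj AlgebraicGeometry Limits
open Groth.Agent.Books.AffBridge Groth.Agent.Books.AffBridge2

namespace K493.Perf

open Groth.Agent.Sga3B Groth.Agent.Sga3B.RG Groth.Agent.Sga3B.RG.BrPts Groth.Agent.Sga3B.RG.BcPt

/-- A semisimple group scheme is reductive. -/
theorem isReductive_of_isSemisimple {S : Scheme.{u}} {G : Over S} [GrpObj G]
    (hG : Red.IsSemisimple G) : Red.IsReductive G :=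
  ⟨hG.1, hG.2.1, fun s => (hG.2.2 s).1⟩

/-- Homomorphisms from a semisimple group scheme to a commutative group scheme are trivial. -/
theorem eq_one_of_isSemisimple {S : Scheme.{u}} {G : Over S} [GrpObj G] (hG : Red.IsSemisimple G)
    (H : Over S) [GrpObj H] (hH : ∀ (X : Over S) (a b : X ⟶ H), a * b = b * a) (f : G ⟶ H)
    [IsMonHom f] : f = 1 := by
  obtain ⟨C, _, f₀, D, _, d, -, -, -, -, -, -, -, -, hk, -, hiso⟩ :=
    Groth.Agent.S3972.result G (isReductive_of_isSemisimple hG)
  have := hiso hG
  have h1 : d ≫ f = 1 := hk H f hH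
  rw [← cancel_epi d, h1, MonObj.comp_one]

/-- Commutativity from the universal case. -/
theorem mul_comm_of_fst_snd {S : Scheme.{u}} {H : Over S} [GrpObj H]
    (h : fst H H * snd H H = snd H H * fst H H) (X : Over S) (a b : X ⟶ H) : a * b = b * a := by
  have h1 := congr(lift a b ≫ $h)
  rwa [MonObj.comp_mul, MonObj.comp_mul, lift_fst, lift_snd] at h1

variable {K : Type u} [Field K] [IsAlgClosed K]

/-- Commutativity can be checked on points. -/
theorem mul_comm_of_points (H : Over (Spec (CommRingCat.of K))) [GrpObj H] [Smooth H.hom]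
    [IsSeparated H.hom]
    (h : ∀ a b : 𝟙_ (Over (Spec (CommRingCat.of K))) ⟶ H, a * b = b * a)
    (X : Over (Spec (CommRingCat.of K))) (a b : X ⟶ H) : a * b = b * a := by
  refine mul_comm_of_fst_snd ?_ X a b
  have h1 : Smooth (H ⊗ H).hom := by
    have : (H ⊗ H).hom = (fst H H).left ≫ H.hom := (Over.w (fst H H)).symm
    rw [this]
    have h2 : Smooth (fst H H).left := inferInstanceAs (Smooth (Limits.pullback.fst H.hom H.hom))
    infer_instance
  have h2 : IsReduced (H ⊗ H).left := Groth.Agent.Flat2B.SmoothGeom.isReduced_of_smooth (H ⊗ H).hom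
  refine hom_ext_of_points _ _ fun x => ?_
  rw [MonObj.comp_mul, MonObj.comp_mul]
  exact h _ _

variable {A : Type u} [CommRing A] [HopfAlgebra K A] [Algebra.FiniteType K A] [IsDomain A]

/-- **Semisimple groups of points are perfect** : a closed normal subgroup with commutative
quotient is everything. -/
theorem eq_top_of_isSsPt (hss : IsSsPt K A) {N : Subgroup (Pt K A)} (hn : N.Normal)
    (hcl : IsCl (N : Set (Pt K A))) (hc : ∀ g h : Pt K A, g * h * g⁻¹ * h⁻¹ ∈ N) : N = ⊤ := by
  obtain ⟨C, _, _, φ, hC, hinj, hs, hker⟩ := Groth.Agent.Agf.H593.QuotPt.exists_quotient N hcl hn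
  have hdomC : IsDomain C := hinj.isDomain (φ : C →+* A)
  have hG : Red.IsSemisimple (SpecOver K A) :=
    AlgBc.isSemisimple_iff.2 (BrRed2.isSemisimpleOver_iff.2 ⟨inferInstance, hss.1, hss.2⟩)
  have hsm : Smooth (SpecOver K C).hom := (BrPts.smooth_iff (K := K) C).2 inferInstance
  have hsep : IsSeparated (SpecOver K C).hom :=
    inferInstanceAs (IsSeparated (Spec.map (CommRingCat.ofHom (algebraMap K C))))
  have hcomm : ∀ a b : Pt K C, a * b = b * a := by
    intro a b
    obtain ⟨a, rfl⟩ := hs a
    obtain ⟨b, rfl⟩ := hs b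
    have h1 : a * b * a⁻¹ * b⁻¹ ∈ (Pt.map φ).ker := by
      rw [hker]; exact hc a b
    rw [MonoidHom.mem_ker, map_mul, map_mul, map_mul, map_inv, map_inv] at h1
    rw [← mul_inv_eq_one, _root_.mul_inv_rev, ← _root_.mul_assoc]
    exact h1
  have hmon : IsMonHom (specMap K (φ : C →ₐ[K] A)) := isMonHom_specMap K φ
  have h1 := eq_one_of_isSemisimple hG (SpecOver K C) (mul_comm_of_points (SpecOver K C)
    (fun a b => by
      have h2 := congrArg (ptEquiv K C) (hcomm ((ptEquiv K C).symm a) ((ptEquiv K C).symm b))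
      rwa [map_mul, map_mul, MulEquiv.apply_symm_apply, MulEquiv.apply_symm_apply] at h2))
    (specMap K (φ : C →ₐ[K] A))
  rw [eq_top_iff, ← hker]
  intro g _
  rw [MonoidHom.mem_ker]
  apply (ptEquiv K C).injective
  rw [ptEquiv_map, h1, MonObj.comp_one, map_one]

end K493.Perf
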