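import Groth.Agent.AGF.K493.URad
import Groth.Agent.Agf.H611.NilPts
import Groth.Agent.Sga3B.RG.PbBorel

/-!
# Unipotent points of connected solvable groups; maximal connected unipotent subgroups

`K` algebraically closed, `A` a finitely generated commutative Hopf algebra over `K`.

* `exists_unip`: the unipotent points of a closed connected solvable group form a closed connected
  subgroup, which is its unipotent radical (`isURadIn_of_iff`);
* `exists_borel_of_max`: a maximal connected unipotent subgroup is the subgroup of unipotent points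
  of a Borel subgroup.
-/

set_option autoImplicit false

universe u

open CategoryTheory MonoidalCategory CartesianMonoidalCategory MonObj GrpObj AlgebraicGeometry Limits
open Groth.Agent.Books.AffBridge Groth.Agent.Books.AffBridge2

namespace K493.SolvU

open Groth.Agent.Sga3B Groth.Agent.Sga3B.RG Groth.Agent.Sga3B.RG.BrPts Groth.Agent.Sga3B.RG.BrMax
open Groth.Agent.Agf.H614.AlgDict Groth.Agent.Sga3B.Parab.BorelPts172
open K493.NormSub K493.URad

variable {K : Type u} [Field K] [IsAlgClosed K]

section pts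

variable {A : Type u} [CommRing A] [HopfAlgebra K A] [Algebra.FiniteType K A]
  [_root_.IsReduced A]

/-- The unipotent points of a closed connected solvable group. -/
theorem exists_unip {H : Subgroup (Pt K A)} (hH : IsCCS H) : ∃ N : Subgroup (Pt K A),
    IsCl (N : Set (Pt K A)) ∧ IsConn (N : Set (Pt K A)) ∧ ∀ g, g ∈ N ↔ g ∈ H ∧ IsUnip g := by
  have hs : Function.Surjective (Bialgebra.Quotient.mkBialgHom (R := K)
    (vanIdeal (H : Set (Pt K A)))) := Ideal.Quotient.mk_surjective
  have hr := range_quotMap_vanIdeal H hH.isCl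
  have hdom : IsDomain (A ⧸ vanIdeal (H : Set (Pt K A))) :=
    (Ideal.Quotient.isDomain_iff_prime _).2 hH.isConn
  have hsol : Group.IsSolvable (Pt K (A ⧸ vanIdeal (H : Set (Pt K A)))) := by
    have h1 := hH.isSolvable
    exact Group.isSolvable_of_isSolvable_injective (f := (subEquiv H hH.isCl).toMonoidHom)
      (subEquiv H hH.isCl).injective
  have htrig := PbBorel.isTrig_of_isSolvable (K := K) (A := A ⧸ vanIdeal (H : Set (Pt K A))) hsol
  refine ⟨(Trig.Gu K (A ⧸ vanIdeal (H : Set (Pt K A)))).map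
    (quotMap (vanIdeal (H : Set (Pt K A)))), ?_, ?_, fun g => ?_⟩
  · exact IsCl.image_map hs Trig.isCl_Gu
  · exact IsConn.image_map (TrigTorus.isConn_Gu htrig) _
  · constructor
    · rintro ⟨x, hx, rfl⟩
      refine ⟨hr.le ⟨x, rfl⟩, ?_⟩
      exact (isUnip_map_iff hs).2 ((Trig.isUnip_iff htrig x).2 hx)
    · rintro ⟨hg, hu⟩
      rw [← hr] at hg
      obtain ⟨x, rfl⟩ := hg
      exact ⟨x, (Trig.isUnip_iff htrig x).1 ((isUnip_map_iff hs).1 hu), rfl⟩

/-- The subgroup of unipotent points is the unipotent radical. -/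
theorem isURadIn_of_iff {H N : Subgroup (Pt K A)} (hcl : IsCl (N : Set (Pt K A)))
    (hconn : IsConn (N : Set (Pt K A))) (h : ∀ g, g ∈ N ↔ g ∈ H ∧ IsUnip g) : IsURadIn H N where
  le g hg := ((h g).1 hg).1
  norm := le_normalizer_of_conj fun g hg x hx =>
    (h _).2 ⟨mul_mem (mul_mem hg ((h x).1 hx).1) (inv_mem hg), ((h x).1 hx).2.conj g⟩
  isCl := hcl
  isConn := hconn
  isUnip g hg := ((h g).1 hg).2
  max _ hMH _ _ _ hu g hg := (h g).2 ⟨hMH hg, hu g hg⟩

/-- A closed connected group of unipotent points is solvable. -/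
theorem isCCS_of_isUnip {N : Subgroup (Pt K A)} (hcl : IsCl (N : Set (Pt K A)))
    (hconn : IsConn (N : Set (Pt K A))) (hu : ∀ g ∈ N, IsUnip g) : IsCCS N where
  isCl := hcl
  isConn := hconn
  isSolvable := by
    have := Groth.Agent.Agf.H611.NilPts.isNilpotent_of_isUnip hu
    infer_instance

end pts

/-- The group of points only depends on the homomorphism. -/
theorem ptsSub_congr {A : Type u} [CommRing A] [HopfAlgebra K A]
    {H : Over (Spec (CommRingCat.of K))} [GrpObj H] {i j : H ⟶ SpecOver K A} [IsMonHom i]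
    [IsMonHom j] (h : i = j) : ptsSub i = ptsSub j := by
  subst h
  rfl

section sch

variable {A : Type u} [CommRing A] [HopfAlgebra K A] [Algebra.FiniteType K A]
  [_root_.IsReduced A]
variable {G : Over (Spec (CommRingCat.of K))} [GrpObj G] (e : G ≅ SpecOver K A) [IsMonHom e.hom]

/-- A maximal smooth connected closed subgroup without subtori is the group of unipotent points of
a Borel subgroup. -/
theorem exists_borel_of_max {U : Over (Spec (CommRingCat.of K))} [GrpObj U] (iU : U ⟶ G)
    [IsMonHom iU] [IsClosedImmersion iU.left] [Smooth U.hom] [ConnectedSpace U.left]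
    (nU : Red.HasNoSubtorus K U)
    (maxU : ∀ (V : Over (Spec (CommRingCat.of K))) [GrpObj V] (j : V ⟶ G) [IsMonHom j] (f : U ⟶ V),
      IsClosedImmersion j.left → Smooth V.hom → ConnectedSpace V.left → Red.HasNoSubtorus K V →
      f ≫ j = iU → IsIso f) :
    ∃ B : Subgroup (Pt K A), IsBorelPt B ∧
      ∀ g, g ∈ ptsSub (iU ≫ e.hom) ↔ g ∈ B ∧ IsUnip g := by
  have hu := RadOpen.isUnip_of_hasNoSubtorus (iU ≫ e.hom) nU
  have hccs : IsCCS (ptsSub (iU ≫ e.hom)) :=
    isCCS_of_isUnip (exists_iso_vanIdeal _).1 (isConn_ptsSub _) hu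
  obtain ⟨B, hB, hUB⟩ := hccs.exists_isBorelPt
  obtain ⟨N, hNcl, hNc, hN⟩ := exists_unip hB.toIsCCS
  refine ⟨B, hB, ?_⟩
  have hle : ptsSub (iU ≫ e.hom) ≤ N := fun g hg => (hN g).2 ⟨hUB hg, hu g hg⟩
  -- the scheme of `N`
  have h1 : _root_.IsReduced (A ⧸ vanIdeal (N : Set (Pt K A))) := inferInstance
  have h2 : Smooth (SpecOver K (A ⧸ vanIdeal (N : Set (Pt K A)))).hom :=
    (BrPts.smooth_iff (K := K) (A ⧸ vanIdeal (N : Set (Pt K A)))).2 h1
  have h3 : ptsSub (incl K (vanIdeal (N : Set (Pt K A)))) = N := by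
    apply SetLike.coe_injective
    rw [ptsSub_incl, hNcl.eq]
  obtain ⟨f, hf⟩ := exists_factor_of_le (iU ≫ e.hom) (incl K (vanIdeal (N : Set (Pt K A))))
    (by rw [h3]; exact hle)
  have hmi : IsMonHom e.inv := inferInstance
  have hei : IsIso e.inv.left := inferInstanceAs (IsIso ((Over.forget _).map e.inv))
  have hcl : IsClosedImmersion (incl K (vanIdeal (N : Set (Pt K A))) ≫ e.inv).left := by
    rw [Over.comp_left]
    infer_instance
  have hconn := connectedSpace_of_isConn (incl K (vanIdeal (N : Set (Pt K A))))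
    (by rw [h3]; exact hNc)
  have hmono : Mono (incl K (vanIdeal (N : Set (Pt K A)))) :=
    Groth.Agent.Sga3B.RG.BrCent.mono_of_mono_left _
  have hnt := BrRed.hasNoSubtorus_of_unip (incl K (vanIdeal (N : Set (Pt K A))))
    (by rw [h3]; exact fun g hg => ((hN g).1 hg).2)
  have hiso := maxU _ (incl K (vanIdeal (N : Set (Pt K A))) ≫ e.inv) f hcl h2 hconn hnt
    (by rw [← Category.assoc, hf, Category.assoc, e.hom_inv_id, Category.comp_id])
  have hge : N ≤ ptsSub (iU ≫ e.hom) := by
    rw [← h3]
    exact ptsSub_le_of_comp (incl K (vanIdeal (N : Set (Pt K A)))) (iU ≫ e.hom) (CategoryTheory.inv f)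
      (by rw [← hf, IsIso.inv_hom_id_assoc])
  intro g
  rw [← hN g]
  exact ⟨fun h => hle h, fun h => hge h⟩

end sch

end K493.SolvU
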